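import Mathlib
import Cfsg.Agent.Lib.Comp.FStar
import Cfsg.Agent.Lib.InvChar.SylowIn
import Cfsg.Agent.Lib.PGroup.Basic
import Cfsg.Agent.S0205

/-! Groups all of whose proper subgroups are CA-groups: solvable normal subgroups are central, and there is a
normal quasisimple subgroup. -/

set_option autoImplicit false
set_option linter.unusedSectionVars false

namespace H50.MCA

open Subgroup Cfsg

/-- Centralizer of an element. -/
scoped notation "ℂ⟦" x "⟧" => Subgroup.centralizer ({x} : Set _)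

variable {G : Type*} [Group G]

/-- `H` is not abelian. -/
def NA (H : Subgroup G) : Prop := ∃ a ∈ H, ∃ b ∈ H, a * b ≠ b * a

/-- Centralizers of non-central elements are abelian. -/
def CA (G : Type*) [Group G] : Prop := ∀ x : G, NA ℂ⟦x⟧ → x ∈ center G

/-- Every proper subgroup is a CA-group. -/
def PC (G : Type*) [Group G] : Prop := ∀ H : Subgroup G, H ≠ ⊤ → ∀ x ∈ H, NA (H ⊓ ℂ⟦x⟧) → H ≤ ℂ⟦x⟧

/-- Solvable normal subgroups are central. -/
def SZ (G : Type*) [Group G] : Prop := ∀ N : Subgroup G, N.Normal → Group.IsSolvable N → N ≤ center G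

/-- `π` is the projection onto the central quotient. -/
structure Cv {L : Type*} [Group L] (π : G →* L) : Prop where
  surj : Function.Surjective π
  ker : ∀ g, π g = 1 ↔ g ∈ center G

theorem mc {g x : G} : g ∈ ℂ⟦x⟧ ↔ g * x = x * g := mem_centralizer_singleton_iff

theorem NA.mono {H K : Subgroup G} (h : NA H) (l : H ≤ K) : NA K := by
  obtain ⟨a, ha, b, hb, e⟩ := h
  exact ⟨a, l ha, b, l hb, e⟩

theorem solv_of_not_na {H : Subgroup G} (h : ¬ NA H) : Group.IsSolvable H :=
  Group.isSolvable_of_comm fun a b => Subtype.ext (by_contra fun e => h ⟨a, a.2, b, b.2, e⟩)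

theorem na_of {H : Subgroup G} (h : ¬ Group.IsSolvable H) : NA H := by_contra fun e => h (solv_of_not_na e)

theorem solv_zpowers (x : G) : Group.IsSolvable (zpowers x) :=
  solv_of_not_na (by rintro ⟨_, ⟨m, rfl⟩, _, ⟨n, rfl⟩, e⟩; exact e (zpow_mul_comm x m n))

theorem solv_center : Group.IsSolvable (center G) :=
  solv_of_not_na fun ⟨a, _, _, hb, e⟩ => e (mem_center_iff.1 hb a)

theorem ne_top_of_solv (hG : ¬ Group.IsSolvable G) {H : Subgroup G} (h : Group.IsSolvable H) : H ≠ ⊤ := by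
  rintro rfl
  exact hG (H1.isSolvable_of_mulEquiv topEquiv h)

theorem solv_of_comm {R : Subgroup G} (h : Group.IsSolvable (⁅R, R⁆ : Subgroup G)) : Group.IsSolvable R :=
  H1.isSolvable_of_normal_of_quotient (commutator R)
    (H1.isSolvable_of_map_injective R.subtype_injective (by rwa [map_subtype_commutator]))
    (Group.isSolvable_of_comm fun a b => mul_comm (G := Abelianization R) a b)

theorem comm_le {R A : Subgroup G} (h : ⁅R, A⁆ ≤ center G) : ⁅R, R⁆ ≤ centralizer (A : Set G) := by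
  have z : ∀ {X : Subgroup G}, X ≤ center G → ⁅X, R⁆ = ⊥ := fun l =>
    commutator_eq_bot_iff_le_centralizer.2 (l.trans (center_le_centralizer _))
  have k : ⁅⁅R, R⁆, A⁆ = ⊥ := commutator_commutator_eq_bot_of_rotate (z h) (z (by rwa [Subgroup.commutator_comm]))
  exact commutator_eq_bot_iff_le_centralizer.1 k

theorem cv_mk : Cv (QuotientGroup.mk' (center G)) :=
  ⟨QuotientGroup.mk'_surjective _, fun g => QuotientGroup.eq_one_iff g⟩

theorem Cv.equiv {L L' : Type*} [Group L] [Group L'] {π : G →* L} (c : Cv π) (e : L ≃* L') :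
    Cv (e.toMonoidHom.comp π) :=
  ⟨e.surjective.comp c.surj, fun g => by rw [← c.ker]; simp⟩

theorem Cv.solv {L : Type*} [Group L] {π : G →* L} (c : Cv π) {N : Subgroup L} (h : Group.IsSolvable N) :
    Group.IsSolvable (N.comap π) :=
  H1.isSolvable_comap h (H1.isSolvable_of_le solv_center fun g hg => (c.ker g).1 hg)

theorem Cv.ne_top {L : Type*} [Group L] {π : G →* L} (c : Cv π) {N : Subgroup L} (h : N ≠ ⊤) : N.comap π ≠ ⊤ :=
  fun e => h (by rw [← map_comap_eq_self_of_surjective c.surj N, e, map_top_of_surjective _ c.surj])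

theorem Cv.eq {L : Type*} [Group L] {π : G →* L} (c : Cv π) {a b : G} (h : π a = π b) :
    ∃ z ∈ center G, a = b * z :=
  ⟨b⁻¹ * a, (c.ker _).1 (by simp [h]), by group⟩

theorem Cv.comm {L : Type*} [Group L] {π : G →* L} (c : Cv π) {a b a' b' : G} (h : π a = π a') (h' : π b = π b')
    (e : a' * b' = b' * a') : a * b = b * a := by
  obtain ⟨z, hz, rfl⟩ := c.eq h
  obtain ⟨w, hw, rfl⟩ := c.eq h'
  have e1 : Commute z (b' * w) := (mem_center_iff.1 hz _).symm
  have e2 : Commute a' w := mem_center_iff.1 hw _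
  exact (Commute.mul_right e e2).mul_left e1

theorem Cv.cop {L : Type*} [Group L] {π : G →* L} (c : Cv π) {a b : G} (h : π a * π b = π b * π a) {m n : ℕ}
    (ha : a ^ m ∈ center G) (hb : b ^ n ∈ center G) (k : m.Coprime n) : a * b = b * a := by
  obtain ⟨z, hz, e⟩ := c.eq (a := a * b * a⁻¹) (b := b) (by simp [h])
  have c1 : Commute b z := mem_center_iff.1 hz b
  have e1 : z ^ n = 1 := by
    have := congrArg (· ^ n) e
    simp only [conj_pow, c1.mul_pow] at this
    rw [mem_center_iff.1 hb a, mul_assoc, mul_inv_cancel, mul_one] at this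
    exact (left_eq_mul.1 this)
  have e2 : z ^ m = 1 := by
    have f : b⁻¹ * a * b = a * z := by
      rw [mul_assoc, mul_inv_eq_iff_eq_mul.1 e, mem_center_iff.1 hz a]; group
    have := congrArg (· ^ m) f
    simp only [(show Commute a z from mem_center_iff.1 hz a).mul_pow] at this
    rw [show (b⁻¹ * a * b) ^ m = b⁻¹ * a ^ m * b by simpa using conj_pow (a := b⁻¹) (b := a) (i := m),
      mem_center_iff.1 ha, mul_assoc, inv_mul_cancel, mul_one] at this
    exact (left_eq_mul.1 this)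
  have : z = 1 := by
    rw [← pow_one z, ← k.gcd_eq_one]; exact pow_gcd_eq_one.2 ⟨e2, e1⟩
  rw [this, mul_one] at e
  exact mul_inv_eq_iff_eq_mul.1 e

theorem CA.pc (h : CA G) : PC G := fun _ _ x _ n g _ => mc.2 (mem_center_iff.1 (h x (n.mono inf_le_right)) g)

theorem PC.ca (h : PC G) {K : Subgroup G} (hK : K ≠ ⊤) : CA K := fun x ⟨a, ha, b, hb, e⟩ =>
  mem_center_iff.2 fun g => Subtype.ext (mc.1 (h K hK x x.2 ⟨a, ⟨a.2, mc.2 (congrArg Subtype.val (mc.1 ha))⟩,
    b, ⟨b.2, mc.2 (congrArg Subtype.val (mc.1 hb))⟩, fun f => e (Subtype.ext f)⟩ g.2))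

theorem CA.of_inj {H : Type*} [Group H] (h : CA G) {f : H →* G} (hf : Function.Injective f) : CA H :=
  fun x ⟨a, ha, b, hb, e⟩ => mem_center_iff.2 fun g => hf (by
    have := h (f x) ⟨f a, mc.2 (by rw [← map_mul, mc.1 ha, map_mul]), f b, mc.2 (by rw [← map_mul, mc.1 hb, map_mul]),
      fun k => e (hf (by rw [map_mul, k, map_mul]))⟩
    rw [map_mul, map_mul, mem_center_iff.1 this])

theorem PC.of_inj {H : Type*} [Group H] (h : PC G) {f : H →* G} (hf : Function.Injective f) : PC H := by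
  by_cases e : f.range = ⊤
  · intro K hK x hx ⟨a, ha, b, hb, n⟩ g hg
    have := h (K.map f) (fun k => hK (map_injective hf (by rw [k, ← MonoidHom.range_eq_map, e]))) (f x)
      (mem_map_of_mem f hx) ⟨f a, ⟨mem_map_of_mem f ha.1, mc.2 (by rw [← map_mul, mc.1 ha.2, map_mul])⟩,
      f b, ⟨mem_map_of_mem f hb.1, mc.2 (by rw [← map_mul, mc.1 hb.2, map_mul])⟩,
      fun k => n (hf (by rw [map_mul, k, map_mul]))⟩ (mem_map_of_mem f hg)
    exact mc.2 (hf (by rw [map_mul, mc.1 this, map_mul]))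
  · exact ((h.ca e).of_inj (f := f.rangeRestrict) (MonoidHom.rangeRestrict_injective_iff.2 hf)).pc

theorem dih [Finite G] {u v : G} (hu : u * u = 1) (hv : v * v = 1) :
    ∃ H : Subgroup G, Group.IsSolvable H ∧ u ∈ H ∧ v ∈ H := by
  have iu := inv_eq_of_mul_eq_one_right hu
  refine ⟨zpowers u ⊔ zpowers (u * v), H1.isSolvable_sup_of_le_normalizer (solv_zpowers _) (solv_zpowers _)
    (zpowers_le.2 (H72.mem_normalizer_of_conj_mem ?_)), mem_sup_left (mem_zpowers _), ?_⟩
  · rintro _ ⟨n, rfl⟩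
    rw [← conj_zpow, show u * (u * v) * u⁻¹ = (u * v)⁻¹ by
      rw [← mul_assoc, hu, one_mul, mul_inv_rev, inv_eq_of_mul_eq_one_right hv]]
    exact zpow_mem (inv_mem (mem_zpowers _)) n
  · have := mul_mem (mem_sup_left (mem_zpowers u) : u ∈ zpowers u ⊔ zpowers (u * v))
      (mem_sup_right (mem_zpowers (u * v)))
    rwa [← mul_assoc, hu, one_mul] at this

variable [Finite G]

theorem ft (h : ¬ 2 ∣ Nat.card G) : Group.IsSolvable G :=
  Cfsg.Agent.S0205.result (Nat.odd_iff.2 (Nat.two_dvd_ne_zero.1 h))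

theorem nn0 (hG : ¬ Group.IsSolvable G) (P : Sylow 2 G) :
    NA (normalizer (P : Set G)) ∧ normalizer (P : Set G) ≠ ⊤ := by
  refine ⟨by_contra fun h => hG ?_, fun h => hG ?_⟩
  · have l : normalizer (P : Set G) ≤ centralizer (P : Set G) := fun g hg a ha =>
      by_contra fun e => h ⟨a, le_normalizer ha, g, hg, e⟩
    have := ft (MonoidHom.not_dvd_card_ker_transferSylow P l)
    have := H1.isSolvable_of_isPGroup P.2
    exact Group.isSolvable_of_ker_le_range (MonoidHom.transferSylow P l).ker.subtype (MonoidHom.transferSylow P l) (by simp)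
  · have := normalizer_eq_top_iff.1 h
    exact H1.isSolvable_of_normal_of_quotient (P : Subgroup G) (H1.isSolvable_of_isPGroup P.2) (ft P.not_dvd_index)

theorem nn {M : Subgroup G} (hM : ¬ Group.IsSolvable M) (P : Sylow 2 M) :
    NA (normalizer ((P : Subgroup M).map M.subtype : Set G) ⊓ M) ∧
      ¬ M ≤ normalizer ((P : Subgroup M).map M.subtype : Set G) := by
  obtain ⟨⟨a, ha, b, hb, e⟩, n⟩ := nn0 hM P
  refine ⟨⟨a, ⟨le_normalizer_map M.subtype (mem_map_of_mem _ ha), a.2⟩, b,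
    ⟨le_normalizer_map M.subtype (mem_map_of_mem _ hb), b.2⟩, fun f => e (Subtype.ext f)⟩, fun l => n ?_⟩
  refine eq_top_iff.2 fun g _ => H72.mem_normalizer_of_conj_mem fun k hk => ?_
  obtain ⟨y, hy, f⟩ := H72.conj_mem_of_mem_normalizer (l g.2) (mem_map_of_mem M.subtype hk)
  rwa [show g * k * g⁻¹ = y from Subtype.ext f.symm]

theorem NA.solv {M : Subgroup G} (h : NA M) : ∃ E ≤ M, Group.IsSolvable E ∧ NA E := by
  induction M using WellFoundedLT.induction with
  | ind M ih =>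
    by_cases s : Group.IsSolvable M
    · exact ⟨M, le_rfl, s, h⟩
    obtain ⟨P⟩ : Nonempty (Sylow 2 M) := inferInstance
    obtain ⟨n, l⟩ := nn s P
    obtain ⟨E, h1, h2⟩ := ih _ (inf_lt_right.2 l) n
    exact ⟨E, h1.trans inf_le_right, h2⟩

theorem PC.cen (h : PC G) {N : Subgroup G} [N.Normal] (hN : ¬ Group.IsSolvable N) {s : G} (hs : N ≤ ℂ⟦s⟧) :
    s ∈ center G := by
  obtain ⟨P⟩ : Nonempty (Sylow 2 N) := inferInstance
  obtain ⟨n, l⟩ := nn hN P
  have := h _ (fun e => l (by rw [e]; exact le_top)) s (H72.mem_normalizer_of_conj_mem fun k hk => by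
    rwa [← mc.1 (hs (map_subtype_le _ hk)), mul_inv_cancel_right]) (n.mono (inf_le_inf_left _ hs))
  exact mem_center_iff.2 fun g => mc.1 ((sup_le this hs : _ ≤ ℂ⟦s⟧) (Sylow.normalizer_sup_eq_top P ▸ mem_top g))

theorem PC.solv (h : PC G) (hG : ¬ Group.IsSolvable G) {x : G} (hx : NA ℂ⟦x⟧) {B : Subgroup G}
    (hB : Group.IsSolvable B) (l : ℂ⟦x⟧ ≤ normalizer (B : Set G)) : B ≤ ℂ⟦x⟧ := by
  obtain ⟨E, h1, h2, h3⟩ := hx.solv
  have k : E ≤ normalizer (zpowers x : Set G) := fun g hg => H72.mem_normalizer_of_conj_mem (by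
    rintro _ ⟨n, rfl⟩
    rw [← conj_zpow, mc.1 (h1 hg), mul_inv_cancel_right]
    exact zpow_mem (mem_zpowers x) n)
  exact le_sup_right.trans (h _ (ne_top_of_solv hG (H1.isSolvable_sup_of_le_normalizer
    (H1.isSolvable_sup_of_le_normalizer h2 (solv_zpowers x) k) hB
    ((sup_le h1 (zpowers_le.2 (mc.2 rfl))).trans l))) x (mem_sup_left (mem_sup_right (mem_zpowers x)))
    (h3.mono (le_inf (le_sup_left.trans le_sup_left) h1)))

theorem exists_norm {L : Type*} [Group L] {π : G →* L} (c : Cv π) {A : Subgroup G} [nA : A.Normal]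
    (sB : Group.IsSolvable (centralizer (A : Set G))) {y : G}
    (h : ∀ g, ∀ a ∈ A, a * (g * y * g⁻¹ * a * (g * y * g⁻¹)⁻¹) ∈ center G) :
    ∃ M : Subgroup G, M.Normal ∧ Group.IsSolvable M ∧ y ∈ M := by
  have := nA.map π c.surj
  obtain ⟨R, nR, hR⟩ : ∃ R : Subgroup G, R.Normal ∧ ∀ r, r ∈ R ↔ ∀ a ∈ A, π a * π r = π r * π a :=
    ⟨(centralizer (A.map π : Set _)).comap π, inferInstance, fun r =>
      ⟨fun h a ha => h _ (mem_map_of_mem π ha), by rintro h _ ⟨a, ha, rfl⟩; exact h a ha⟩⟩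
  have RA : ⁅R, A⁆ ≤ center G := commutator_le.2 fun r hr a ha => (c.ker _).1 (by
    rw [map_commutatorElement, commutatorElement_eq_one_iff_mul_comm, (hR r).1 hr a ha])
  have sR := solv_of_comm (H1.isSolvable_of_le sB (comm_le RA))
  refine ⟨R ⊔ zpowers y, H5.normal_sup_zpowers fun g => (hR _).2 fun a ha => ?_,
    by rw [sup_comm]; exact H1.isSolvable_sup_of_normal (solv_zpowers y) sR, mem_sup_right (mem_zpowers y)⟩
  have e1 := (c.ker _).2 (h g a ha)
  have e2 := (c.ker _).2 (h 1 a ha)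
  rw [commutatorElement_def, show y * g * y⁻¹ * g⁻¹ = y * (g * y * g⁻¹)⁻¹ by group]
  generalize g * y * g⁻¹ = w at e1
  simp only [map_mul, map_inv, one_mul, inv_one, mul_one] at e1 e2 ⊢
  have f1 := eq_inv_of_mul_eq_one_right e1
  have f2 := eq_inv_of_mul_eq_one_right e2
  calc π a * (π y * (π w)⁻¹) = (π y * π a * (π y)⁻¹)⁻¹ * (π y * (π w)⁻¹) := by rw [f2, inv_inv]
    _ = π y * (π w)⁻¹ * (π w * π a * (π w)⁻¹)⁻¹ := by group
    _ = _ := by rw [f1, inv_inv]

theorem PC.sz (h : PC G) (hG : ¬ Group.IsSolvable G) (hC : ¬ CA G) : SZ G := by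
  intro N nN sN
  by_contra hN
  obtain ⟨x, hx, xz⟩ : ∃ x : G, NA ℂ⟦x⟧ ∧ x ∉ center G := by simpa [CA] using hC
  set A := normalClosure ({x} : Set G)
  have xA : x ∈ A := subset_normalClosure rfl
  set B := centralizer (A : Set G)
  have cA : ∀ (M : Subgroup G) [M.Normal], Group.IsSolvable M → M ≤ B := fun M _ s =>
    le_centralizer_iff.1 (normalClosure_le_normal (by
      rintro _ rfl g hg
      exact mc.1 (h.solv hG hx s (le_normalizer_of_normal) hg)))
  have sD : Group.IsSolvable (centralizer (N : Set G)) := by_contra fun e =>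
    hN fun s hs => h.cen e fun g hg => mc.2 (hg s hs).symm
  have AB : A ≤ B := cA A (H1.isSolvable_of_le sD (le_centralizer_iff.1 (cA N sN)))
  have BC : ∀ a ∈ A, B ≤ ℂ⟦a⟧ := fun a ha g hg => mc.2 (hg a ha).symm
  have sB : Group.IsSolvable B := by_contra fun e => xz (h.cen e (BC x xA))
  have c1 : ∀ y, y ∉ B → y * y ∈ B → ∀ a ∈ A, y * a = a * y → a ∈ center G := fun y yB y2 a ha e => by
    obtain ⟨b, hb, n⟩ : ∃ b ∈ A, b * y ≠ y * b := by simpa [B, mem_centralizer_iff] using yB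
    by_contra az
    refine yB (cA (normalClosure {y}) (by_contra fun s => az (h.cen s ((closure_le _).2 ?_)))
      (subset_normalClosure rfl))
    intro w hw
    obtain ⟨v, hv, k⟩ := Group.mem_conjugatesOfSet_iff.1 hw
    obtain ⟨g, rfl⟩ := isConj_iff.1 ((show v = y from hv) ▸ k)
    have q : ∀ {v : G}, v * v ∈ B → QuotientGroup.mk' B v * QuotientGroup.mk' B v = 1 := fun e => by
      rw [← map_mul]; exact (QuotientGroup.eq_one_iff _).2 e
    obtain ⟨H, s, h1, h2⟩ := dih (q y2) (q (v := g * y * g⁻¹) (by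
      rw [show g * y * g⁻¹ * (g * y * g⁻¹) = g * (y * y) * g⁻¹ by group]; exact Normal.conj_mem inferInstance _ y2 g))
    have l : B ≤ H.comap (QuotientGroup.mk' B) := fun v hv => by
      rw [mem_comap, (QuotientGroup.eq_one_iff _).2 hv |> (show QuotientGroup.mk' B v = 1 from ·)]; exact one_mem _
    exact h _ (ne_top_of_solv hG (H1.isSolvable_comap s (by rwa [QuotientGroup.ker_mk']))) a (l (AB ha))
      ⟨b, ⟨l (AB hb), BC a ha (AB hb)⟩, y, ⟨h1, mc.2 e⟩, n⟩ h2
  obtain ⟨y, hy⟩ := exists_prime_orderOf_dvd_card' (G := G ⧸ B) 2 (by_contra fun e =>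
    hG (H1.isSolvable_of_normal_of_quotient B sB (ft e)))
  obtain ⟨y, rfl⟩ := QuotientGroup.mk_surjective y
  have yB : y ∉ B := fun e => by rw [(QuotientGroup.eq_one_iff _).2 e] at hy; simp at hy
  have y2 : y * y ∈ B := (QuotientGroup.eq_one_iff _).1 (by
    rw [QuotientGroup.mk_mul, ← pow_two, ← hy, pow_orderOf_eq_one])
  obtain ⟨M, _, s, hy⟩ := exists_norm cv_mk sB (y := y) fun g a ha => by
    have nb : ∀ {v : G}, g * v * g⁻¹ ∈ B ↔ v ∈ B := ⟨fun e => by
      simpa [mul_assoc] using Normal.conj_mem' inferInstance _ e g, fun e => Normal.conj_mem inferInstance _ e g⟩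
    have w2 : g * y * g⁻¹ * (g * y * g⁻¹) ∈ B := by
      rw [show g * y * g⁻¹ * (g * y * g⁻¹) = g * (y * y) * g⁻¹ by group]; exact nb.2 y2
    have wB : g * y * g⁻¹ ∉ B := by rwa [nb]
    generalize g * y * g⁻¹ = w at w2 wB
    have m : w * a * w⁻¹ ∈ A := Normal.conj_mem inferInstance _ ha w
    refine c1 w wB w2 _ (mul_mem ha m) ?_
    calc w * (a * (w * a * w⁻¹)) = w * a * w⁻¹ * (w * w * a) * w⁻¹ := by group
      _ = w * a * w⁻¹ * a * w := by rw [← w2 a ha]; group
      _ = _ := by rw [AB ha _ m]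
  exact yB (cA M s hy)

theorem sz_of_qs (h : IsQuasisimple G) : SZ G := fun N _ s =>
  (H23.IsQuasisimple.normal_eq_top_or_le_center h N).resolve_left
    (ne_top_of_solv (H23.IsQuasisimple.not_isSolvable h) s)

theorem SZ.cen (hz : SZ G) {L : Type*} [Group L] {π : G →* L} (c : Cv π) {x : G} (h : π x ∈ center L) :
    x ∈ center G :=
  hz ((center L).comap π) inferInstance (c.solv solv_center) h

theorem PC.cz (h : PC G) (hz : SZ G) {L : Type*} [Group L] {π : G →* L} (c : Cv π) {x : G} (hx : x ∉ center G)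
    (n : NA ℂ⟦x⟧) {g : G} (e : π g * π x = π x * π g) : g * x = x * g :=
  mc.1 (h ((ℂ⟦π x⟧).comap π) (c.ne_top fun k => hx (hz.cen c (mem_center_iff.2 fun l => mc.1 (k ▸ mem_top l))))
    x (mc.2 rfl) (n.mono (le_inf (fun a ha => mc.2 (by rw [← map_mul, mc.1 ha, map_mul])) le_rfl)) (mc.2 e))

theorem PC.exists_K (h : PC G) (hG : ¬ Group.IsSolvable G) (hz : SZ G) :
    ∃ K : Subgroup G, K.Normal ∧ IsQuasisimple K := by
  obtain ⟨K, hK⟩ : ∃ K : Subgroup G, IsComponent K := by
    by_contra! e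
    have := H23.center_eq_top_of_fStar_le_center (G := G) (by
      rw [H23.fStar_eq_fitting_iff.2 (H23.layer_eq_bot_iff.2 e)]
      exact hz _ inferInstance H23.isSolvable_fitting)
    exact ne_top_of_solv hG solv_center this
  refine ⟨K, H1.normal_of_forall_conj_smul_le fun g => ?_, hK.2⟩
  have hL := H23.IsComponent.smul hK (MulAut.conj g)
  refine ((H23.IsComponent.eq_or_commutator_eq_bot hL hK).resolve_right fun e => ?_).le
  have e' := commutator_eq_bot_iff_le_centralizer.1 e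
  obtain ⟨E, h1, h2, a, ha, b, hb, n⟩ := (na_of (H23.IsQuasisimple.not_isSolvable hK.2)).solv
  obtain ⟨E', h1', h2', n'⟩ := (na_of (H23.IsQuasisimple.not_isSolvable hL.2)).solv
  exact n (mc.1 (h _ (ne_top_of_solv hG (H1.isSolvable_sup_of_le_normalizer h2' h2
    (fun v hv => H72.mem_normalizer_of_conj_mem fun k hk => by
      rwa [← e' (h1' hv) k (h1 hk), mul_inv_cancel_right]))) b (mem_sup_right hb)
    (n'.mono (le_inf le_sup_left fun v hv => mc.2 (e' (h1' hv) b (h1 hb)).symm)) (mem_sup_right ha)))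

end H50.MCA
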