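import Mathlib
import Cfsg.Agent.Lib.MCA.A
import Cfsg.Agent.Lib.SL2Elt.Sylow
import Cfsg.Agent.Lib.GL.Simple
import Cfsg.Agent.Lib.AutCl.PSLOut

/-! Facts about `PSL₂(q)` used for minimal non-CA-groups. -/

set_option autoImplicit false
set_option linter.unusedSectionVars false

namespace H50.MCA

open Subgroup Cfsg H64.SL2
open scoped MatrixGroups

variable {F : Type*} [Field F]

/-- Upper unipotent element. -/
def uu (t : F) : PSL(2, F) := proj (mk 1 t 0 1 (by simp))

/-- Lower unipotent element. -/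
def vv (t : F) : PSL(2, F) := proj (mk 1 0 t 1 (by simp))

/-- Diagonal element. -/
def dd (c : F) (h : c ≠ 0) : PSL(2, F) := proj (mk c 0 0 c⁻¹ (by simp [h]))

theorem uu_inj {s t : F} (h : uu s = uu t) : s = t := by
  rcases proj_eq_iff.1 h with e | e <;> simp only [ent] at e
  · exact e.2.1
  · linear_combination e.2.1 - t * e.1

theorem uu_pow (t : F) (n : ℕ) : uu t ^ n = uu (n * t) := by
  induction n with
  | zero => exact congrArg proj (by simp [ent])
  | succ n ih =>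
    rw [pow_succ, ih, uu, uu, ← map_mul]
    exact congrArg proj (by simp only [ent]; push_cast; refine ⟨?_, ?_, ?_, ?_⟩ <;> ring)

theorem uu_zero : uu (0 : F) = 1 := by simpa using (uu_pow (0 : F) 0).symm

theorem uu_comm (s t : F) : uu s * uu t = uu t * uu s := by
  rw [uu, uu, ← map_mul, ← map_mul]
  exact congrArg proj (by simp [ent, add_comm])

theorem dd_uu {c : F} (h : c ≠ 0) (t : F) : dd c h * uu t * (dd c h)⁻¹ = uu (c * c * t) := by
  rw [uu, dd, ← map_inv, ← map_mul, ← map_mul]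
  exact congrArg proj (by simp only [ent]; refine ⟨?_, ?_, ?_, ?_⟩ <;> field_simp <;> ring)

theorem dd_vv {c : F} (h : c ≠ 0) (t : F) : dd c h * vv t * (dd c h)⁻¹ = vv ((c * c)⁻¹ * t) := by
  rw [vv, dd, ← map_inv, ← map_mul, ← map_mul]
  exact congrArg proj (by simp only [ent]; refine ⟨?_, ?_, ?_, ?_⟩ <;> field_simp <;> ring)

theorem upper {s : SL(2, F)} (h : s 1 0 = 0) (e : s 0 0 = s 1 1) : proj s = uu (s 0 0 * s 0 1) := by
  have d := det_eq s
  rw [h, mul_zero, sub_zero, ← e] at d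
  refine proj_eq_iff.2 ((mul_self_eq_one_iff.1 d).imp (fun k => ?_) fun k => ?_) <;>
    simp only [ent, ← e, k, h] <;> simp

theorem cent_uu {a : F} (ha : a ≠ 0) {g : PSL(2, F)} (h : g * uu a = uu a * g) : ∃ t, g = uu t := by
  obtain ⟨s, rfl⟩ := proj_surjective g
  rw [uu, ← map_mul, ← map_mul] at h
  have d := det_eq s
  have k : s 1 0 = 0 ∧ s 0 0 = s 1 1 := by
    rcases proj_eq_iff.1 h with e | e <;> simp only [ent] at e <;> obtain ⟨e1, e2, e3, e4⟩ := e
    · exact ⟨mul_left_cancel₀ ha (by linear_combination -e1), mul_left_cancel₀ ha (by linear_combination e2)⟩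
    by_cases h2 : (2 : F) = 0
    · exact ⟨mul_left_cancel₀ ha (by linear_combination e1 - s 0 0 * h2),
        mul_left_cancel₀ ha (by linear_combination e2 - (s 0 1 + a * s 1 1) * h2)⟩
    have f1 : s 1 0 = 0 := mul_left_cancel₀ h2 (by linear_combination e3)
    have f2 : s 0 0 = 0 := mul_left_cancel₀ h2 (by linear_combination e1 - a * f1)
    simp [f1, f2] at d
  exact ⟨_, upper k.1 k.2⟩

/-- The centralizer of `g` is normalized by an element that does not commute with `g`. -/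
def Gd {L : Type*} [Group L] (g : L) : Prop := ∃ n, (∀ y, y * g = g * y → n * y * n⁻¹ * g = g * (n * y * n⁻¹)) ∧ n * g ≠ g * n

theorem Gd.conj {L : Type*} [Group L] {g c : L} (h : Gd (c * g * c⁻¹)) : Gd g := by
  obtain ⟨n, h1, h2⟩ := h
  refine ⟨c⁻¹ * n * c, fun y e => ?_, fun e => h2 ?_⟩
  · have := h1 (c * y * c⁻¹) (by rw [conj_mul, e, conj_mul])
    calc _ = c⁻¹ * (n * (c * y * c⁻¹) * n⁻¹ * (c * g * c⁻¹)) * c := by group
      _ = _ := by rw [this]; group
  · calc _ = c * (c⁻¹ * n * c * g) * c⁻¹ := by group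
      _ = _ := by rw [e]; group

variable [Fintype F]

theorem exists_c (h : 3 < Fintype.card F) : ∃ c : F, c ≠ 0 ∧ c * c ≠ 1 := by
  classical
  by_contra! k
  have : (Finset.univ : Finset F) ⊆ {0, 1, -1} := fun c _ => by
    by_cases e : c = 0
    · simp [e]
    · rcases mul_self_eq_one_iff.1 (k c e) with f | f <;> simp [f]
  exact absurd ((Finset.card_le_card this).trans Finset.card_le_three) (by simpa using h)

theorem gd_uu (h : 3 < Fintype.card F) {a : F} (ha : a ≠ 0) : Gd (uu a) := by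
  obtain ⟨c, c0, c1⟩ := exists_c h
  refine ⟨dd c c0, fun y e => ?_, fun e => c1 (mul_right_cancel₀ ha (uu_inj ?_))⟩
  · obtain ⟨t, rfl⟩ := cent_uu ha e
    rw [dd_uu, uu_comm]
  · rw [← dd_uu c0, e, mul_inv_cancel_right, one_mul]

theorem gd (h : 3 < Fintype.card F) {g : PSL(2, F)} (g1 : g ≠ 1) (h2 : g * g ≠ 1 ∨ (2 : F) = 0) : Gd g := by
  obtain ⟨s, rfl⟩ := proj_surjective g
  by_cases t : tr s ^ 2 = 4
  · obtain ⟨a, ha, a2⟩ : ∃ a : F, tr s = 2 * a ∧ a * a = 1 := by
      rcases sq_eq_sq_iff_eq_or_eq_neg.1 (show tr s ^ 2 = 2 ^ 2 by rw [t]; norm_num) with e | e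
      · exact ⟨1, by simp [e], by simp⟩
      · exact ⟨-1, by simp [e], by simp⟩
    obtain ⟨c, h1, h0⟩ := exists_conj_upper (g := s) (a := a) (by rw [ha]; linear_combination -a2)
    have k := tr_conj s c
    rw [tr, h0, ha] at k
    have u := upper h1 (by rw [h0]; linear_combination -k)
    refine Gd.conj (c := proj c) ?_
    rw [← map_inv, ← map_mul, ← map_mul, u]
    refine gd_uu h fun e => g1 ?_
    rw [e, uu_zero, map_mul, map_mul, map_inv, mul_inv_eq_one, mul_eq_left] at u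
    exact u
  obtain ⟨w, hw⟩ := exists_inverts t
  have e : proj w * proj s * (proj w)⁻¹ = (proj s)⁻¹ := by rw [← map_inv, ← map_mul, ← map_mul, hw, map_inv]
  refine ⟨proj w, fun y k => ?_, fun k => ?_⟩
  · have c : Commute (proj w * y * (proj w)⁻¹) (proj w * proj s * (proj w)⁻¹) := by
      rw [Commute, SemiconjBy, conj_mul, k, conj_mul]
    rw [e] at c
    exact Commute.inv_right_iff.1 c
  rw [k, mul_inv_cancel_right] at e
  have e2 := mul_eq_one_iff_eq_inv.2 e
  rcases h2 with h2 | h2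
  · exact h2 e2
  rw [← map_mul, proj_eq_one_iff] at e2
  rcases mem_center_or_tr_eq_zero_of_sq e2 with f | f
  · exact g1 (proj_eq_one_iff.2 f)
  · exact t (by rw [f]; linear_combination -2 * h2)

theorem psl_simple (h : 3 < Fintype.card F) : IsSimpleGroup PSL(2, F) :=
  H10.isSimpleGroup_PSL_fin 2 le_rfl fun _ => by rwa [Nat.card_eq_fintype_card]

theorem psl_center (h : 3 < Fintype.card F) : center PSL(2, F) = ⊥ := by
  have := psl_simple h
  refine (IsSimpleGroup.eq_bot_or_eq_top_of_normal _ inferInstance).resolve_right fun e => ?_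
  obtain ⟨n, -, k⟩ := gd_uu h (one_ne_zero (α := F))
  exact k (mem_center_iff.1 (e ▸ mem_top _) n)

theorem psl_not_solv (h : 3 < Fintype.card F) : ¬ Group.IsSolvable PSL(2, F) := fun s => by
  have := psl_simple h
  obtain ⟨n, -, k⟩ := gd_uu h (one_ne_zero (α := F))
  exact k (IsSimpleGroup.comm_iff_isSolvable.2 s _ _)

theorem psl_ind (P : PSL(2, F) → Prop) (hu : ∀ t, P (uu t)) (hv : ∀ t, P (vv t)) (hm : ∀ a b, P a → P b → P (a * b))
    (g : PSL(2, F)) : P g := by
  obtain ⟨s, rfl⟩ := proj_surjective g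
  refine H10.SL_transvection_induction (fun s => P (proj s)) (by simpa [uu_zero] using hu 0) (fun i j h c => ?_)
    (fun a b h k => by rw [map_mul]; exact hm _ _ h k) s
  fin_cases i <;> fin_cases j
  · exact absurd rfl h
  · refine (congrArg (fun s => P (proj s)) (Subtype.ext ?_)).mpr (hu c)
    rw [Matrix.SpecialLinearGroup.transvection_coe]
    ext i j; fin_cases i <;> fin_cases j <;> simp [H64.SL2.coe_mk]
  · refine (congrArg (fun s => P (proj s)) (Subtype.ext ?_)).mpr (hv c)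
    rw [Matrix.SpecialLinearGroup.transvection_coe]
    ext i j; fin_cases i <;> fin_cases j <;> simp [H64.SL2.coe_mk]
  · exact absurd rfl h

theorem aut_nf (β : MulAut PSL(2, F)) : ∃ (s : PSL(2, F)) (d : F) (σ : F ≃+* F), d ≠ 0 ∧
    ∀ t, β (uu t) = s * uu (d * σ t) * s⁻¹ ∧ β (vv t) = s * vv (d⁻¹ * σ t) * s⁻¹ := by
  obtain ⟨g, σ, rfl | ⟨h, -⟩⟩ := H67.psl_aut (ι := Fin 2) (F := F) (by simp) β
  swap
  · simp at h
  have d0 : (g : Matrix (Fin 2) (Fin 2) F).det ≠ 0 := g.det_ne_zero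
  generalize hd : (g : Matrix (Fin 2) (Fin 2) F).det = d at d0
  let D : GL (Fin 2) F := Matrix.GeneralLinearGroup.mkOfDetNeZero !![d, 0; 0, 1] (by simpa using d0)
  obtain ⟨s, hs⟩ := H67.mem_range_toGL.2 (show ((g * D⁻¹ : GL (Fin 2) F) : Matrix (Fin 2) (Fin 2) F).det = 1 by
    simp [D, hd, d0])
  have key : ∀ x y z : SL(2, F), y.1 = x.1.map σ → z.1 * !![d, 0; 0, 1] = !![d, 0; 0, 1] * y.1 →
      (H67.pslInn (Fin 2) F g * H67.pslField (Fin 2) F σ) (proj x) = proj s * proj z * (proj s)⁻¹ := fun x y z h1 h2 => by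
    rw [show g = Matrix.SpecialLinearGroup.toGL s * D by rw [hs]; group, map_mul, H67.pslInn_toGL]
    have e1 : H67.pslField (Fin 2) F σ (proj x) = proj y := H67.indAut_mk _ _ (Units.ext h1)
    have e2 : H67.pslInn (Fin 2) F D (proj y) = proj z := H67.indAut_mk _ _ (by
      change _ = D * _ * D⁻¹
      rw [eq_mul_inv_iff_mul_eq]; exact Units.ext h2)
    rw [MulAut.mul_apply, MulAut.mul_apply, e1, e2]; rfl
  refine ⟨proj s, d, σ, d0, fun t => ⟨key _ (mk 1 (σ t) 0 1 (by simp)) _ ?_ ?_, key _ (mk 1 0 (σ t) 1 (by simp)) _ ?_ ?_⟩⟩ <;>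
    ext i j <;> fin_cases i <;> fin_cases j <;> simp [H64.SL2.coe_mk, Matrix.mul_apply, Fin.sum_univ_two, mul_right_comm d⁻¹, d0]

theorem sq_aut (d : F) (σ : F ≃+* F) : IsSquare (d * σ d) := by
  classical
  by_cases h : IsSquare d
  · exact h.mul (h.map σ)
  have h' : ¬ IsSquare (σ d) := fun e => h (by simpa using e.map σ.symm)
  have a0 : d ≠ 0 := by rintro rfl; exact h IsSquare.zero
  rw [← quadraticChar_neg_one_iff_not_isSquare] at h h'
  rw [← quadraticChar_one_iff_isSquare (mul_ne_zero a0 (by simpa using a0)), map_mul, h, h']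
  norm_num

theorem four (h2 : (2 : F) ≠ 0) {H : Subgroup PSL(2, F)} {x : PSL(2, F)} (hx : x ∈ H) (x1 : x ≠ 1)
    (n : NA (H ⊓ ℂ⟦x⟧)) : 4 ∣ Nat.card H ∧ ∃ s b : SL(2, F), tr s = 0 ∧ b * s = s * b ∧ b * b ∉ center SL(2, F) := by
  obtain ⟨s, rfl⟩ := proj_surjective x
  have sz : s ∉ center SL(2, F) := fun e => x1 (proj_eq_one_iff.2 e)
  have pm : ∀ a : SL(2, F), proj a ∈ ℂ⟦proj s⟧ → a * s = s * a ∨ a * s * a⁻¹ = -s := fun a ha =>
    (proj_eq_iff.1 (show proj (a * s) = proj (s * a) by rw [map_mul, map_mul, mc.1 ha])).imp_right fun e => by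
      rw [e]; simp [mul_assoc]
  suffices k : ∀ a b : SL(2, F), proj a ∈ H → a * s * a⁻¹ = -s → proj b ∈ ℂ⟦proj s⟧ → proj a * proj b ≠ proj b * proj a →
      4 ∣ Nat.card H ∧ ∃ s b : SL(2, F), tr s = 0 ∧ b * s = s * b ∧ b * b ∉ center SL(2, F) by
    obtain ⟨a, ha, b, hb, e⟩ := n
    obtain ⟨a, rfl⟩ := proj_surjective a
    obtain ⟨b, rfl⟩ := proj_surjective b
    rcases pm a ha.2 with f | f
    · rcases pm b hb.2 with g | g
      · exact (e (by rw [← map_mul, commute_of_mem_centralizer sz (mc.2 f) (mc.2 g), map_mul])).elim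
      · exact k b a hb.1 g ha.2 e.symm
    · exact k a b ha.1 f hb.2 e
  intro a b aH ha hb e
  have t0 : tr s = 0 := by
    have := tr_conj s a
    rw [ha, tr_neg] at this
    exact mul_left_cancel₀ h2 (by linear_combination -this)
  have t4 : tr s ^ 2 ≠ 4 := by
    rw [t0]; exact fun k => mul_ne_zero h2 h2 (by linear_combination -k)
  have si : s⁻¹ = -s := inv_eq_of_mul_eq_one_right (by rw [mul_neg, mul_self_eq_neg_one_of_tr t0, neg_neg])
  have sq : ∀ {w : SL(2, F)}, tr w = 0 → proj w * proj w = 1 := fun e => by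
    rw [← map_mul, mul_self_eq_neg_one_of_tr e, proj_neg, map_one]
  have a2 := sq (tr_eq_zero_of_inverts t4 (si ▸ ha))
  have as : proj a * proj s = proj s * proj a := by
    rw [← mul_inv_eq_iff_eq_mul, ← map_inv, ← map_mul, ← map_mul, ha, proj_neg]
  have o : orderOf (proj s) = 2 := orderOf_eq_prime (by rw [pow_two, sq t0]) x1
  refine ⟨?_, s, ?_⟩
  · have := H5.card_sup_zpowers Nat.prime_two (K := zpowers (proj s)) (x := proj a)
      (H72.mem_normalizer_of_conj_mem (by
        rintro _ ⟨n, rfl⟩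
        rw [← conj_zpow, as, mul_inv_cancel_right]
        exact zpow_mem (mem_zpowers _) n)) (by
        rintro ⟨n, f⟩
        exact e (f ▸ (Commute.zpow_left (mc.1 hb).symm n))) (by rw [pow_two, a2]; exact one_mem _)
    rw [Nat.card_zpowers, o] at this
    exact (show 4 = _ from this.symm) ▸ card_dvd_of_le (sup_le (zpowers_le.2 hx) (zpowers_le.2 aH))
  have fin : ∀ c : SL(2, F), c * s = s * c → proj a * proj c ≠ proj c * proj a → c * c ∉ center SL(2, F) :=
    fun c hc k z => k (by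
      rw [← mul_inv_eq_iff_eq_mul, ← map_inv, ← map_mul, ← map_mul, inverts_of_inverts sz (si ▸ ha) (mc.2 hc), map_inv]
      exact inv_eq_of_mul_eq_one_right (by rw [← map_mul, proj_eq_one_iff.2 z]))
  rcases pm b hb with f | f
  · exact ⟨b, t0, f, fin b f e⟩
  have c : a * b * s = s * (a * b) := by
    rw [← mul_inv_eq_iff_eq_mul, show a * b * s * (a * b)⁻¹ = a * (b * s * b⁻¹) * a⁻¹ by group, f, mul_neg, neg_mul, ha,
      neg_neg]
  exact ⟨a * b, t0, c, fin _ c fun k => e (mul_left_cancel (a := proj a) (by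
    rw [map_mul] at k; rw [k, mul_assoc]))⟩

theorem tr0 (h2 : (2 : F) ≠ 0) {s : SL(2, F)} (t0 : tr s = 0) : tr s ^ 2 ≠ 4 ∧
    (Nat.card ℂ⟦s⟧ = Fintype.card F - 1 ∨ Nat.card ℂ⟦s⟧ = Fintype.card F + 1) ∧ 4 ∣ Nat.card ℂ⟦s⟧ := by
  have t4 : tr s ^ 2 ≠ 4 := by
    rw [t0]; exact fun k => mul_ne_zero h2 h2 (by linear_combination -k)
  refine ⟨t4, ?_, ?_⟩
  · rw [← Nat.card_eq_fintype_card]
    exact (em (Split s)).imp (card_centralizer_of_split t4) card_centralizer_of_not_split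
  · have : orderOf s = 2 ^ (1 + 1) := orderOf_eq_prime_pow
      (by rw [pow_one, pow_two, mul_self_eq_neg_one_of_tr t0]; exact neg_one_ne_one h2)
      (by rw [show 2 ^ (1 + 1) = 2 * 2 from rfl, pow_mul, pow_two s, mul_self_eq_neg_one_of_tr t0]; simp)
    exact (show 4 = orderOf s from this.symm) ▸ orderOf_dvd_natCard _ (mc.2 rfl)

theorem ca_small (h : Fintype.card F = 3 ∨ Fintype.card F = 5) : CA PSL(2, F) := fun x n => by
  have h2 : (2 : F) ≠ 0 := two_ne_zero_of_odd (by rcases h with h | h <;> rw [h] <;> decide)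
  by_contra xz
  obtain ⟨-, s, b, t0, e, k⟩ := four h2 (mem_top x) (fun e => xz (e ▸ one_mem _)) (by rwa [top_inf_eq])
  obtain ⟨-, h1, h4⟩ := tr0 h2 t0
  have c : Nat.card ℂ⟦s⟧ = 4 := by omega
  have := pow_card_eq_one' (x := (⟨b, mc.2 e⟩ : ℂ⟦s⟧))
  rw [c] at this
  exact k (mem_center_of_mul_self_eq_one h2 (by
    rw [← show b ^ 4 = 1 from congrArg Subtype.val this]; simp only [pow_succ, pow_zero, one_mul, mul_assoc]))

theorem not_ca (ho : Odd (Fintype.card F)) (h : 5 < Fintype.card F) : ¬ CA PSL(2, F) := fun c => by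
  have h2 := two_ne_zero_of_odd ho
  have t0 := tr_comp (0 : F)
  generalize comp (0 : F) = s at t0
  obtain ⟨t4, h1, -⟩ := tr0 h2 t0
  obtain ⟨w, hw⟩ := exists_inverts t4
  obtain ⟨⟨t, ht⟩, o⟩ := (isCyclic_centralizer t4).exists_ofOrder_eq_natCard
  have sz := not_mem_center_of_tr t4
  have si : s⁻¹ = -s := inv_eq_of_mul_eq_one_right (by rw [mul_neg, mul_self_eq_neg_one_of_tr t0, neg_neg])
  have := c (proj s) ⟨proj w, mc.2 (by rw [← mul_inv_eq_iff_eq_mul, ← map_inv, ← map_mul, ← map_mul, hw, si, proj_neg]),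
    proj t, mc.2 (by rw [← map_mul, mc.1 ht, map_mul]), fun e => by
      rw [← mul_inv_eq_iff_eq_mul, ← map_inv, ← map_mul, ← map_mul, inverts_of_inverts sz hw ht, map_inv] at e
      have k := orderOf_dvd_two_mul_orderOf_proj t
      have k2 : orderOf (proj t) ∣ 2 := orderOf_dvd_of_pow_eq_one (by rw [pow_two]; exact mul_eq_one_iff_inv_eq.2 e)
      have := Nat.le_of_dvd (by norm_num) (k.trans (mul_dvd_mul_left 2 k2))
      rw [← orderOf_coe] at o
      obtain ⟨m, hm⟩ := ho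
      change orderOf t = _ at o
      omega⟩
  rw [psl_center (by omega), mem_bot, proj_eq_one_iff] at this
  exact sz this

end H50.MCA
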