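import Mathlib
import Cfsg.Agent.Lib.MCA.A
import Cfsg.Agent.Lib.Inv73.Transfer
import Cfsg.Agent.Lib.FGS.TwoOrbits
import Cfsg.Agent.Lib.GL.SylowSL2
import Cfsg.Agent.S0215

/-! Sylow 2-subgroups of groups all of whose proper subgroups are CA-groups. -/

set_option autoImplicit false
set_option linter.unusedSectionVars false

namespace H50.MCA

open Subgroup Cfsg

variable {G : Type*} [Group G] [Finite G] {L : Type*} [Group L] {π : G →* L}

theorem exists_syl (T : Sylow 2 G) {H D : Subgroup G} (hT : (T : Subgroup G) ≤ H) (hD : IsPGroup 2 D) (l : D ≤ H) :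
    ∃ S : Sylow 2 G, D ≤ S ∧ (S : Subgroup G) ≤ H := by
  obtain ⟨g, hg, e⟩ := H72.exists_conj_mem_sylow_of_le T hT hD l
  refine ⟨g⁻¹ • T, fun a ha => H72.mem_smul_sylow.2 (by simpa using e a ha), fun a ha => ?_⟩
  have := mul_mem (mul_mem (inv_mem hg) (hT (H72.mem_smul_sylow.1 ha))) hg
  simpa [mul_assoc] using this

theorem na_syl {T : Sylow 2 G} (h : NA (T : Subgroup G)) (S : Sylow 2 G) : NA (S : Subgroup G) := by
  obtain ⟨g, rfl⟩ := MulAction.exists_smul_eq G T S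
  obtain ⟨a, ha, b, hb, e⟩ := h
  refine ⟨g * a * g⁻¹, H72.mem_smul_sylow.2 (by simpa [mul_assoc]), g * b * g⁻¹,
    H72.mem_smul_sylow.2 (by simpa [mul_assoc]), fun f => e ?_⟩
  rw [conj_mul, conj_mul] at f
  exact mul_left_cancel (mul_right_cancel f)

/-- Sylow normalizers in the centralizer are not abelian. -/
def RR (u : G) : Prop :=
  ∀ T : Sylow 2 G, (T : Subgroup G) ≤ ℂ⟦u⟧ → NA (normalizer ((T : Subgroup G) : Set G) ⊓ ℂ⟦u⟧)

theorem SZ.ne_top (hz : SZ G) {D : Subgroup G} (s : Group.IsSolvable D) {u : G} (hu : u ∈ D) (uz : u ∉ center G) :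
    normalizer (D : Set G) ≠ ⊤ := fun e => uz (hz D (normalizer_eq_top_iff.1 e) s hu)

theorem step (h : PC G) (hz : SZ G) {u v : G} (uz : u ∉ center G) {D : Subgroup G} (hD : IsPGroup 2 D) (uD : u ∈ D)
    (vD : v ∈ D) (l : D ≤ ℂ⟦u⟧ ⊓ ℂ⟦v⟧) (mx : ¬ 2 ∣ D.relIndex (ℂ⟦u⟧ ⊓ ℂ⟦v⟧)) (T : Sylow 2 G)
    (hT : (T : Subgroup G) ≤ ℂ⟦u⟧) (R : RR u) :
    NA (normalizer (D : Set G) ⊓ ℂ⟦u⟧) ∧ normalizer (D : Set G) ≤ ℂ⟦u⟧ := by
  suffices n : _ from ⟨n, h _ (hz.ne_top (H1.isSolvable_of_isPGroup hD) uD uz) u (le_normalizer uD) n⟩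
  obtain ⟨S, h1, h2⟩ := exists_syl T hT hD (l.trans inf_le_left)
  rcases h1.eq_or_lt with rfl | h1'
  · exact R S h2
  obtain ⟨n, hn, nD, k⟩ := H72.exists_mem_normalizer_not_mem S.2 h1'
  refine ⟨n, ⟨k, h2 hn⟩, v, ⟨le_normalizer vD, (l vD).1⟩, fun e => nD ?_⟩
  rw [← H72.eq_of_sylowIn mx (Q := S ⊓ ℂ⟦v⟧) S.2.to_inf_left (le_inf h1 (l.trans inf_le_right))
    (inf_le_inf_right _ h2)]
  exact ⟨hn, mc.2 e⟩

theorem mc_conj {g a u : G} : a ∈ ℂ⟦g * u * g⁻¹⟧ ↔ g⁻¹ * a * g ∈ ℂ⟦u⟧ := by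
  rw [mc, mc]
  constructor <;> intro e
  · calc _ = g⁻¹ * (a * (g * u * g⁻¹)) * g := by group
      _ = _ := by rw [e]; group
  · calc _ = g * (g⁻¹ * a * g * u) * g⁻¹ := by group
      _ = _ := by rw [e]; group

theorem conj_center {g u : G} : g * u * g⁻¹ ∈ center G ↔ u ∈ center G :=
  ⟨fun e => by simpa [mul_assoc] using Normal.conj_mem' inferInstance _ e g, fun e => Normal.conj_mem inferInstance _ e g⟩

theorem cent_ne_top {u : G} (h : u ∉ center G) : ℂ⟦u⟧ ≠ ⊤ := fun e =>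
  h (mem_center_iff.2 fun g => mc.1 (e ▸ mem_top g))

theorem iso (h : PC G) (hz : SZ G) {u g : G} (uz : u ∉ center G) {T : Sylow 2 G} (uT : u ∈ (T : Subgroup G))
    (hT : (T : Subgroup G) ≤ ℂ⟦u⟧) (R : ∀ g, RR (g * u * g⁻¹)) (e : g * u * g⁻¹ * u = u * (g * u * g⁻¹)) :
    g * u * g⁻¹ = u := by
  have vz : g * u * g⁻¹ ∉ center G := by rwa [conj_center]
  have R1 : RR u := by simpa using R 1
  by_cases n : NA (ℂ⟦u⟧ ⊓ ℂ⟦g * u * g⁻¹⟧)
  · have h1 := h _ (cent_ne_top uz) _ (mc.2 e) n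
    have k : g⁻¹ ∈ normalizer (ℂ⟦u⟧ : Set G) := H72.mem_normalizer_of_conj_mem fun a ha => by
      simpa using mc_conj.1 (h1 ha)
    have := h (normalizer (ℂ⟦u⟧ : Set G)) (fun k => by
      have := normalizer_eq_top_iff.1 k
      exact uz (by_contra fun _ => uz (h.cen (N := ℂ⟦u⟧) (fun s => uz (hz _ this s (mc.2 rfl))) le_rfl))) u
      (le_normalizer (mc.2 rfl)) (n.mono (le_inf (inf_le_left.trans le_normalizer) inf_le_left)) (inv_mem k)
    rw [inv_inv] at this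
    rw [mc.1 this, mul_inv_cancel_right]
  have p : IsPGroup 2 (zpowers u) := T.2.to_le (zpowers_le.2 uT)
  obtain ⟨D, hD, h1, h2, h3⟩ := H72.exists_sylowIn_ge (H := ℂ⟦u⟧ ⊓ ℂ⟦g * u * g⁻¹⟧) p
    (zpowers_le.2 ⟨mc.2 rfl, mc.2 e.symm⟩)
  obtain ⟨k, hk, h4⟩ := H72.exists_conj_mem_sylowIn hD h2 h3 (A := zpowers (g * u * g⁻¹)) (by
    have := H72.isPGroup_map_conj p g
    rwa [MonoidHom.map_zpowers] at this) (zpowers_le.2 ⟨mc.2 e, mc.2 rfl⟩)
  have vD := h4 _ (mem_zpowers _)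
  rw [mc.1 hk.2, mul_inv_cancel_right] at vD
  have uD := h1 (mem_zpowers u)
  have a := step h hz uz hD uD vD h2 h3 T hT R1
  have b := step h hz vz hD vD uD (by rwa [inf_comm]) (by rwa [inf_comm]) (g • T)
    (fun a ha => mc_conj.2 (hT (H72.mem_smul_sylow.1 ha))) (R g)
  exact (n (a.1.mono (le_inf inf_le_right (inf_le_left.trans b.2)))).elim

theorem zs (h : PC G) (hz : SZ G) {u : G} {T : Sylow 2 G} (uT : u ∈ (T : Subgroup G))
    (hT : (T : Subgroup G) ≤ ℂ⟦u⟧) (u2 : u * u ∈ center G) (R : ∀ g, RR (g * u * g⁻¹)) : u ∈ center G := by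
  by_contra uz
  have c := cv_mk (G := G)
  set π := QuotientGroup.mk' (center G)
  have nu : NA ℂ⟦u⟧ := ((show RR u by simpa using R 1) T hT).mono inf_le_right
  obtain ⟨N, nN, o, hN⟩ := Cfsg.Agent.S0215.result (T.mapSurjective c.surj) (π u)
    (orderOf_eq_prime (by rw [pow_two, ← map_mul, (c.ker _).2 u2]) fun e => uz ((c.ker _).1 e))
    (mem_map_of_mem π uT) fun g hg => by
      obtain ⟨g, rfl⟩ := c.surj g
      obtain ⟨t, ht, e⟩ := hg
      rw [← map_inv, ← map_mul, ← map_mul] at e ⊢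
      rw [iso h hz uz uT hT R (h.cz hz c uz nu (by rw [← e, ← map_mul, mc.1 (hT ht), map_mul]))]
  have l := hz _ (nN.comap π) (c.solv (Cfsg.Agent.S0205.result o))
  refine uz (hz.cen c (mem_center_iff.2 fun g => ?_))
  obtain ⟨g, rfl⟩ := c.surj g
  have := (c.ker _).2 (l (show u * g * u⁻¹ * g⁻¹ ∈ N.comap π by simpa using hN (π g)))
  simp only [map_mul, map_inv, one_mul, mul_inv_eq_iff_eq_mul] at this
  exact this.symm

theorem zt (h : PC G) (hz : SZ G) {T : Sylow 2 G} (n : NA (T : Subgroup G)) {u : G} (uT : u ∈ (T : Subgroup G))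
    (hT : (T : Subgroup G) ≤ ℂ⟦u⟧) : u ∈ center G := by
  by_contra uz
  obtain ⟨k, hk⟩ := T.2 ⟨u, uT⟩
  obtain ⟨j, h1, h2⟩ := H5.exists_pow_not_mem_pow_mem (p := 2) uz (k := k)
    (by rw [show u ^ 2 ^ k = 1 from congrArg Subtype.val hk]; exact one_mem _)
  exact h1 (zs h hz (pow_mem uT _) (fun t ht => mc.2 (Commute.pow_right (mc.1 (hT ht)) _)) (pow_two (u ^ 2 ^ j) ▸ h2)
    fun g S l => (na_syl n S).mono (le_inf le_normalizer l))

theorem inv_solv (h : PC G) (hz : SZ G) (c : Cv π) (P : Sylow 2 L) (hP : ¬ NA (P : Subgroup L)) {t : L}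
    (ht : orderOf t = 2) : Group.IsSolvable ℂ⟦t⟧ := by
  have := Finite.of_surjective _ c.surj
  by_contra s
  obtain ⟨Q, hQ⟩ := IsPGroup.exists_le_sylow (P := zpowers t) (p := 2) (IsPGroup.of_card (n := 1) (by simp [ht]))
  obtain ⟨T, rfl⟩ := Sylow.mapSurjective_surjective c.surj 2 Q
  obtain ⟨u, uT, rfl⟩ := hQ (mem_zpowers t)
  have uz : u ∉ center G := fun e => by simp [(c.ker _).2 e] at ht
  have s1 : ¬ Group.IsSolvable ((ℂ⟦π u⟧).comap π) := fun e => s (by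
    have := H1.isSolvable_map e π
    rwa [map_comap_eq_self_of_surjective c.surj] at this)
  have l : ⁅(ℂ⟦π u⟧).comap π, (ℂ⟦π u⟧).comap π⁆ ≤ centralizer (zpowers u : Set G) :=
    comm_le (commutator_le.2 fun a ha b hb => (c.ker _).1 (by
      obtain ⟨n, rfl⟩ := hb
      rw [map_commutatorElement, commutatorElement_eq_one_iff_commute, map_zpow]
      exact Commute.zpow_right (mc.1 ha) n))
  have s2 : ¬ Group.IsSolvable ℂ⟦u⟧ := fun e =>
    s1 (solv_of_comm (H1.isSolvable_of_le e fun a ha => mc.2 (l ha u (mem_zpowers u)).symm))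
  refine uz (zs h hz uT (fun a ha => mc.2 (h.cz hz c uz (na_of s2) (by_contra fun e =>
    hP (na_syl (T := T.mapSurjective c.surj) ⟨_, mem_map_of_mem π ha, _, mem_map_of_mem π uT, e⟩ P)))) ((c.ker _).1 (by
      rw [map_mul, ← pow_two, ← ht, pow_orderOf_eq_one])) fun g S hS => ?_)
  have := (nn (M := ℂ⟦g * u * g⁻¹⟧) (fun e => s2 (H1.isSolvable_of_le (H1.isSolvable_map e
    (MulAut.conj g⁻¹).toMonoidHom) fun a ha => H72.mem_map_conj.2 (mc_conj.2 (by simpa [mul_assoc] using ha))))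
    (S.subtype hS)).1
  rwa [Sylow.coe_subtype, map_subgroupOf_eq_of_le hS] at this

/-- The structure of a non-abelian Sylow 2-subgroup. -/
structure St (T : Subgroup G) (u : G) : Prop where
  uT : u ∈ T
  uz : u ∉ center G
  u2 : u * u ∈ center G
  cm : ∀ t ∈ T, u * t * u⁻¹ * t⁻¹ ∈ center G
  ab : ∀ a ∈ T, a ∉ center G → ¬ NA (T ⊓ ℂ⟦a⟧)
  sq : ∀ t ∈ T, t * u ≠ u * t → t * t ∈ center G

theorem exists_st (h : PC G) (hG : ¬ Group.IsSolvable G) (hz : SZ G) {T : Sylow 2 G} (n : NA (T : Subgroup G)) :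
    ∃ u, St (T : Subgroup G) u := by
  obtain ⟨u, uT, uz, u2, cm⟩ := H5.exists_step_of_le T.2 (center G) le_rfl le_normalizer fun l => by
    obtain ⟨a, -, b, hb, e⟩ := n
    exact e (mem_center_iff.1 (l hb) a)
  have ab : ∀ a ∈ (T : Subgroup G), a ∉ center G → ¬ NA ((T : Subgroup G) ⊓ ℂ⟦a⟧) := fun a ha az k =>
    az (zt h hz n ha (h _ (ne_top_of_solv hG (H1.isSolvable_of_isPGroup T.2)) a ha k))
  refine ⟨u, uT, uz, pow_two u ▸ u2, cm, ab, fun t ht e => by_contra fun k =>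
    ab _ (mul_mem ht ht) k ⟨t, ⟨ht, mc.2 (mul_assoc _ _ _).symm⟩, u, ⟨uT, mc.2 ?_⟩, e⟩⟩
  have hz := cm t ht
  rw [commutatorElement_def] at hz
  obtain ⟨z, e⟩ : ∃ z, z = u * t * u⁻¹ * t⁻¹ := ⟨_, rfl⟩
  rw [← e] at hz
  have f : u * t = z * (t * u) := by rw [e]; group
  have z2 : z * z = 1 := by
    have := mem_center_iff.1 u2 t
    rw [pow_two, mul_assoc, f, ← mul_assoc u, mem_center_iff.1 hz u, mul_assoc z, ← mul_assoc u, f] at this
    have k : z * z * (t * (u * u)) = 1 * (t * (u * u)) := by simpa [mul_assoc] using this.symm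
    exact mul_right_cancel k
  rw [← mul_assoc, f, mul_assoc, mul_assoc, f, ← mul_assoc t z, mem_center_iff.1 hz t, ← mul_assoc, ← mul_assoc,
    ← mul_assoc, z2, one_mul]

theorem inv_of_sq {a b : L} (ha : a * a = 1) (h : a * b * (a * b) = 1) : a * b * a⁻¹ = b⁻¹ := by
  rw [inv_eq_of_mul_eq_one_right ha]; exact eq_inv_of_mul_eq_one_left (by rw [← h]; group)

theorem St.inv {T : Subgroup G} {u : G} (s : St T u) (c : Cv π) {t a : G} (ht : t ∈ T) (n : t * u ≠ u * t)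
    (ha : a ∈ T) (e : a * u = u * a) : π t * π a * (π t)⁻¹ = (π a)⁻¹ := by
  refine inv_of_sq (by rw [← map_mul, (c.ker _).2 (s.sq t ht n)]) ?_
  rw [← map_mul, ← map_mul, (c.ker _).2 (s.sq _ (mul_mem ht ha) fun f => n ?_)]
  rw [mul_assoc, e, ← mul_assoc, ← mul_assoc] at f
  exact mul_right_cancel f

theorem St.comm {T : Subgroup G} {u : G} (s : St T u) {a b : G} (ha : a ∈ T) (e : a * u = u * a) (hb : b ∈ T)
    (f : b * u = u * b) : a * b = b * a :=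
  by_contra fun k => s.ab u s.uT s.uz ⟨a, ⟨ha, mc.2 e⟩, b, ⟨hb, mc.2 f⟩, k⟩

theorem St.cen {T : Subgroup G} {u : G} (s : St T u) (c : Cv π) {t a : G} (ht : t ∈ T) (ha : a ∈ T)
    (e : a * u = u * a) (a2 : π a * π a = 1) : π t * π a = π a * π t := by
  by_cases n : t * u = u * t
  · rw [← map_mul, s.comm ht n ha e, map_mul]
  · rw [← mul_inv_eq_iff_eq_mul, s.inv c ht n ha e, inv_eq_of_mul_eq_one_right a2]

theorem two (h : PC G) (hG : ¬ Group.IsSolvable G) (hz : SZ G) {T : Sylow 2 G} {x : G} (xT : x ∈ (T : Subgroup G))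
    (xz : x ∉ center G) (hx : NA ℂ⟦x⟧) (x2 : x * x ∈ center G) : ¬ NA (T : Subgroup G) := fun n => by
  obtain ⟨u, s⟩ := exists_st h hG hz n
  have c := cv_mk (G := G)
  have e := h.cz hz c xz hx (g := u) (by
    simpa only [map_mul, map_inv, one_mul, mul_inv_eq_iff_eq_mul] using (c.ker _).2 (s.cm x xT))
  exact xz (zt h hz n xT fun t ht => mc.2 (h.cz hz c xz hx
    (s.cen c ht xT e.symm (by rw [← map_mul, (c.ker _).2 x2]))))

/-- A generalized dihedral Sylow 2-subgroup. -/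
structure GD (P A : Subgroup G) (z : G) : Prop where
  le : A ≤ P
  zA : z ∈ A
  z1 : z ≠ 1
  z2 : z * z = 1
  na : NA P
  iv : ∀ t ∈ P, t ∉ A → ∀ a ∈ A, t * a * t⁻¹ = a⁻¹
  sq : ∀ t ∈ P, t ∉ A → t * t = 1
  ab : ∀ a ∈ A, ∀ b ∈ A, a * b = b * a
  no : ∀ r, ∀ t ∈ P, t ∉ A → r * t * r⁻¹ ∈ A → ∀ w ∈ A, w ≠ 1 → r * w * r⁻¹ ∉ A

namespace GD

variable {P : Sylow 2 G} {A : Subgroup G} {z : G} (d : GD (P : Subgroup G) A z)
include d

theorem i2 {a b : G} (ha : a ∈ (P : Subgroup G)) (aA : a ∉ A) (hb : b ∈ (P : Subgroup G)) (bA : b ∉ A) :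
    a * b ∈ A := by
  by_contra k
  have q : ∀ t ∈ (P : Subgroup G), t * t = 1 := fun t ht => by
    by_cases tA : t ∈ A
    · have := d.iv _ (mul_mem ha hb) k t tA
      rw [show a * b * t * (a * b)⁻¹ = a * (b * t * b⁻¹) * a⁻¹ by group, d.iv b hb bA t tA,
        d.iv a ha aA _ (inv_mem tA), inv_inv] at this
      exact mul_eq_one_iff_eq_inv.2 this
    · exact d.sq t ht tA
  obtain ⟨x, hx, y, hy, e⟩ := d.na
  exact e (by rw [← mul_inv_eq_iff_eq_mul, inv_of_sq (q x hx) (q _ (mul_mem hx hy)),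
    inv_eq_of_mul_eq_one_right (q y hy)])

theorem ex : ∃ t ∈ (P : Subgroup G), t ∉ A := by
  by_contra! k
  obtain ⟨x, hx, y, hy, e⟩ := d.na
  exact e (d.ab x (k x hx) y (k y hy))

theorem cn {a : G} (ha : a ∈ A) (a2 : a * a = 1) : (P : Subgroup G) ≤ ℂ⟦a⟧ := fun b hb => mc.2 (by
  by_cases e : b ∈ A
  · exact d.ab b e a ha
  · rw [← mul_inv_eq_iff_eq_mul, d.iv b hb e a ha, inv_eq_of_mul_eq_one_right a2])

theorem rel : A.relIndex P = 2 := by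
  obtain ⟨t, ht, tA⟩ := d.ex
  refine relIndex_eq_two_iff.2 ⟨t, ht, fun b hb => ?_⟩
  by_cases e : b ∈ A
  · exact .inr ⟨e, fun f => tA ((mul_mem_cancel_left e).1 f)⟩
  · exact .inl ⟨d.i2 hb e ht tA, e⟩

theorem fuse (hL : ∀ N : Subgroup G, N.index ≠ 2) {t : G} (ht : t ∈ (P : Subgroup G)) (tA : t ∉ A) :
    ∃ g, g * t * g⁻¹ ∈ A := by
  by_contra e
  have o : Odd (P : Subgroup G).index := Nat.not_even_iff_odd.1 fun k => P.not_dvd_index k.two_dvd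
  have o2 : orderOf t = 2 := orderOf_eq_prime (by rw [pow_two, d.sq t ht tA]) fun e => tA (by rw [e]; exact one_mem _)
  obtain ⟨N, -, i, -⟩ := H73.thompson_transfer (P : Subgroup G) A o d.rel t o2 fun g k => e ⟨g, k⟩
  exact hL N i

theorem uq (hL : ∀ N : Subgroup G, N.index ≠ 2) {v : G} (hv : v ∈ A) (v2 : v * v = 1) : v = 1 ∨ v = z := by
  by_contra! k
  obtain ⟨t, ht, tA⟩ := d.ex
  obtain ⟨g, hg⟩ := d.fuse hL ht tA
  have l : ((P : Subgroup G) ⊓ ℂ⟦t⟧).map (MulAut.conj g).toMonoidHom ≤ ℂ⟦g * t * g⁻¹⟧ :=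
    fun a ha => mc_conj.2 (mem_inf.1 (H72.mem_map_conj.1 ha)).2
  obtain ⟨k', hk, f⟩ := H72.exists_conj_mem_sylow_of_le P (d.cn hg (by
    rw [conj_mul, d.sq t ht tA, mul_one, mul_inv_cancel])) (H72.isPGroup_map_conj P.2.to_inf_left g) l
  have f' : ∀ w ∈ A, w * w = 1 → k' * g * w * (k' * g)⁻¹ ∈ (P : Subgroup G) := fun w hw w2 => by
    have := f _ (H72.conj_mem_map_conj (g := g) (H := P ⊓ ℂ⟦t⟧) ⟨d.le hw, mc.2 (mc.1 (d.cn hw w2 ht)).symm⟩)
    simpa [mul_assoc] using this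
  have ft : k' * g * t * (k' * g)⁻¹ ∈ A := by
    rwa [show k' * g * t * (k' * g)⁻¹ = k' * (g * t * g⁻¹) * k'⁻¹ by group, mc.1 hk, mul_inv_cancel_right]
  have no := d.no _ t ht tA ft
  refine no (v * z) (mul_mem hv d.zA) (fun e => k.2 (by
    rw [eq_inv_of_mul_eq_one_left e, inv_eq_of_mul_eq_one_right d.z2])) ?_
  rw [← conj_mul (a := v)]
  exact d.i2 (f' v hv v2) (no v hv k.1) (f' _ d.zA d.z2) (no _ d.zA d.z1)

theorem main (hL : ∀ N : Subgroup G, N.index ≠ 2) :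
    ∃ n, 2 ≤ n ∧ Nonempty ((P : Subgroup G) ≃* DihedralGroup n) := by
  obtain ⟨t, ht, tA⟩ := d.ex
  obtain ⟨a, aA, ha⟩ : ∃ a ∈ A, ∀ b ∈ A, ∃ k : ℕ, a ^ k = b := by
    let _ : CommGroup A := { (inferInstance : Group A) with mul_comm := fun a b => Subtype.ext (d.ab a a.2 b b.2) }
    obtain ⟨a, ha⟩ := (H78.TwoOrbits.isCyclic_of_unique_invol (A := A) (P.2.to_le d.le) ⟨_, d.zA⟩ fun a e =>
      (d.uq hL a.2 (congrArg Subtype.val e)).imp Subtype.ext Subtype.ext).exists_monoid_generator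
    exact ⟨a, a.2, fun b hb => (ha ⟨b, hb⟩).imp fun k e => congrArg Subtype.val e⟩
  have o : 2 ≤ orderOf a := by
    by_contra! k
    obtain ⟨j, e⟩ := ha _ d.zA
    have := orderOf_pos a
    rw [orderOf_eq_one_iff.1 (by omega : orderOf a = 1), one_pow] at e
    exact d.z1 e.symm
  have : NeZero (orderOf a) := ⟨by omega⟩
  have inj := H10.dihHom_injective a t (pow_orderOf_eq_one _) (d.sq t ht tA) (d.iv t ht tA a aA) rfl
    fun e => tA (zpowers_le.2 aA e)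
  refine ⟨_, o, ⟨((MonoidHom.ofInjective inj).trans (MulEquiv.subgroupCongr (le_antisymm ?_ fun b hb => ?_))).symm⟩⟩
  · rintro _ ⟨_ | i, rfl⟩
    · rw [H10.dihHom_r]; exact pow_mem (d.le aA) _
    · rw [H10.dihHom_sr]; exact mul_mem ht (pow_mem (d.le aA) _)
  by_cases e : b ∈ A
  · obtain ⟨k, rfl⟩ := ha b e
    exact ⟨.r k, by rw [H10.dihHom_r, H10.pow_val_natCast (pow_orderOf_eq_one _)]⟩
  · obtain ⟨k, f⟩ := ha _ (d.i2 ht tA hb e)
    exact ⟨.sr k, by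
      rw [H10.dihHom_sr, H10.pow_val_natCast (pow_orderOf_eq_one _), f, ← mul_assoc, d.sq t ht tA, one_mul]⟩

end GD

theorem St.gd [Finite L] {T : Subgroup G} {u : G} (s : St T u) (c : Cv π) (n : NA (T.map π)) :
    GD (T.map π) ((T ⊓ ℂ⟦u⟧).map π) (π u) := by
  have mA : ∀ t ∈ T, π t ∉ (T ⊓ ℂ⟦u⟧).map π → t * u ≠ u * t := fun t ht k e => k (mem_map_of_mem π ⟨ht, mc.2 e⟩)
  refine ⟨map_mono inf_le_left, mem_map_of_mem π ⟨s.uT, mc.2 rfl⟩, fun e => s.uz ((c.ker _).1 e),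
    by rw [← map_mul, (c.ker _).2 s.u2], n, ?_, ?_, ?_, fun r => ?_⟩
  · rintro _ ⟨t, ht, rfl⟩ k _ ⟨a, ha, rfl⟩
    exact s.inv c ht (mA t ht k) ha.1 (mc.1 ha.2)
  · rintro _ ⟨t, ht, rfl⟩ k
    rw [← map_mul, (c.ker _).2 (s.sq t ht (mA t ht k))]
  · rintro _ ⟨a, ha, rfl⟩ _ ⟨b, hb, rfl⟩
    rw [← map_mul, s.comm ha.1 (mc.1 ha.2) hb.1 (mc.1 hb.2), map_mul]
  obtain ⟨r, rfl⟩ := c.surj r
  rintro _ ⟨t, ht, rfl⟩ tA ⟨b, hb, e'⟩ _ ⟨w, hw, rfl⟩ w1 ⟨a, ha, e⟩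
  rw [← map_inv, ← map_mul, ← map_mul] at e e'
  have := c.comm e'.symm e.symm (s.comm hb.1 (mc.1 hb.2) ha.1 (mc.1 ha.2))
  rw [conj_mul, conj_mul] at this
  exact s.ab w hw.1 (fun z => w1 ((c.ker _).2 z)) ⟨t, ⟨ht, mc.2 (mul_left_cancel (mul_right_cancel this))⟩, u,
    ⟨s.uT, mc.2 (mc.1 hw.2).symm⟩, mA t ht tA⟩

theorem dihed (h : PC G) (hG : ¬ Group.IsSolvable G) (hz : SZ G) (c : Cv π) (hL : ∀ N : Subgroup L, N.index ≠ 2)
    (P : Sylow 2 L) (n : NA (P : Subgroup L)) : ∃ n, 2 ≤ n ∧ Nonempty ((P : Subgroup L) ≃* DihedralGroup n) := by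
  have := Finite.of_surjective _ c.surj
  obtain ⟨T, rfl⟩ := Sylow.mapSurjective_surjective c.surj 2 P
  obtain ⟨u, s⟩ := exists_st h hG hz (T := T) (by
    obtain ⟨_, ⟨a, ha, rfl⟩, _, ⟨b, hb, rfl⟩, e⟩ := n
    exact ⟨a, ha, b, hb, fun f => e (by rw [← map_mul, f, map_mul])⟩)
  exact GD.main (P := T.mapSurjective c.surj) (s.gd c n) hL

end H50.MCA
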